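import Cfsg.Agent.H166.Cov.Defs

/-!
# Pole placement (task B of `tools/plans/S2483.md`, helper216)

`exists_charpoly_add` : if `φ` is observable for `T` and `f` is monic of degree `dim V` then `f` is the characteristic
polynomial of `T + φ ⊗ b` for some vector `b`.

Proof: in a basis whose first coordinate is `φ` the characteristic polynomial of `T + φ ⊗ b` is `χ - w 0`, where
`w = cramer (X - T) b` satisfies `(X - T) w = χ b`; comparing coefficients, `b ↦ w 0` is an injective linear map from `V`
to the polynomials of degree less than `dim V`.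
-/

set_option autoImplicit false

namespace Cfsg.Agent.H216.Pole

open Module Polynomial Cfsg.Agent.H166.Cov

universe u

variable {F : Type u} [Field F] {V W U : Type u} [AddCommGroup V] [Module F V]
  [AddCommGroup W] [Module F W] [AddCommGroup U] [Module F U]

section mat

variable {n : ℕ} (M : Matrix (Fin (n + 1)) (Fin (n + 1)) F) (r : Fin (n + 1) → F)

/-- the vector of polynomials `adj (X - M) r` -/
noncomputable def w : Fin (n + 1) → F[X] := Matrix.cramer M.charmatrix fun i => C (r i)

/-- its coefficients -/
noncomputable def wc (k : ℕ) : Fin (n + 1) → F := fun i => (w M r i).coeff k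

theorem charmatrix_w (i : Fin (n + 1)) : X * w M r i - ∑ j, C (M i j) * w M r j = M.charpoly * C (r i) := by
  have h := congrFun (Matrix.mulVec_cramer M.charmatrix fun i => C (r i)) i
  rw [Pi.smul_apply, smul_eq_mul] at h
  rw [Matrix.charpoly, ← h, Matrix.mulVec, dotProduct]
  have h1 : ∀ j, M.charmatrix i j * Matrix.cramer M.charmatrix (fun i => C (r i)) j =
      (if i = j then X * w M r j else 0) - C (M i j) * w M r j := by
    intro j
    rw [Matrix.charmatrix_apply, sub_mul, Matrix.diagonal_apply]
    split_ifs <;> simp [w]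
  rw [Finset.sum_congr rfl fun j _ => h1 j, Finset.sum_sub_distrib, Finset.sum_ite_eq, if_pos (Finset.mem_univ _)]

theorem wc_succ (k : ℕ) : wc M r k = M.mulVec (wc M r (k + 1)) + M.charpoly.coeff (k + 1) • r := by
  funext i
  have h := congrArg (fun p : F[X] => p.coeff (k + 1)) (charmatrix_w M r i)
  simp only [coeff_sub, coeff_X_mul, finsetSum_coeff, coeff_C_mul, coeff_mul_C] at h
  rw [sub_eq_iff_eq_add] at h
  show (w M r i).coeff k = _
  rw [h, Pi.add_apply, Pi.smul_apply, smul_eq_mul, add_comm]
  rfl

theorem wc_zero : M.mulVec (wc M r 0) = -(M.charpoly.coeff 0 • r) := by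
  funext i
  have h := congrArg (fun p : F[X] => p.coeff 0) (charmatrix_w M r i)
  simp only [coeff_sub, coeff_X_mul_zero, finsetSum_coeff, coeff_C_mul, coeff_mul_C, zero_sub] at h
  rw [Pi.neg_apply, Pi.smul_apply, smul_eq_mul, ← h, neg_neg]
  rfl

theorem wc_eq_zero {k : ℕ} (hk : n + 1 ≤ k) : wc M r k = 0 := by
  have hdeg : M.charpoly.natDegree = n + 1 := by rw [Matrix.charpoly_natDegree_eq_dim, Fintype.card_fin]
  obtain ⟨K, hK⟩ : ∃ K, ∀ j, K ≤ j → wc M r j = 0 := by
    refine ⟨(Finset.univ.sup fun i => (w M r i).natDegree) + 1, fun j hj => ?_⟩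
    funext i
    refine coeff_eq_zero_of_natDegree_lt ?_
    have h1 : (w M r i).natDegree ≤ Finset.univ.sup fun i => (w M r i).natDegree :=
      Finset.le_sup (f := fun i => (w M r i).natDegree) (Finset.mem_univ i)
    omega
  have key : ∀ d k, n + 1 ≤ k → K ≤ k + d → wc M r k = 0 := by
    intro d
    induction d with
    | zero => intro k _ h; exact hK k h
    | succ d ih =>
      intro k h1 h2
      rw [wc_succ, ih (k + 1) (by omega) (by omega), Matrix.mulVec_zero,
        coeff_eq_zero_of_natDegree_lt (by omega), zero_smul, add_zero]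
  exact key K k hk (by omega)

theorem wc_last : wc M r n = r := by
  have hdeg : M.charpoly.natDegree = n + 1 := by rw [Matrix.charpoly_natDegree_eq_dim, Fintype.card_fin]
  have h1 : M.charpoly.coeff (n + 1) = 1 := by
    have h2 := M.charpoly_monic
    rwa [Monic, leadingCoeff, hdeg] at h2
  rw [wc_succ, wc_eq_zero M r le_rfl, Matrix.mulVec_zero, h1, one_smul, zero_add]

/-- adding a multiple of the first coordinate -/
theorem charpoly_updateCol : (M.updateCol 0 (fun i => M i 0 + r i)).charpoly = M.charpoly - w M r 0 := by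
  have h1 : (M.updateCol 0 (fun i => M i 0 + r i)).charmatrix =
      M.charmatrix.updateCol 0 ((fun i => M.charmatrix i 0) + -(fun i => C (r i))) := by
    ext1 i j
    by_cases hj : j = 0
    · subst hj
      simp only [Matrix.charmatrix_apply, Matrix.updateCol_self, Pi.add_apply, Pi.neg_apply, map_add]
      ring
    · rw [Matrix.updateCol_ne hj, Matrix.charmatrix_apply, Matrix.charmatrix_apply, Matrix.updateCol_ne hj]
  have h2 : M.charmatrix.updateCol 0 (fun i => M.charmatrix i 0) = M.charmatrix := Matrix.updateCol_eq_self _ _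
  rw [Matrix.charpoly, h1, Matrix.det_updateCol_add, h2, ← Matrix.cramer_apply, map_neg,
    Pi.neg_apply, ← sub_eq_add_neg]
  rfl

end mat

theorem w_add (n : ℕ) (M : Matrix (Fin (n + 1)) (Fin (n + 1)) F) (r r' : Fin (n + 1) → F) :
    w M (r + r') = w M r + w M r' := by
  have h1 : (fun i => C ((r + r') i)) = (fun i => C (r i)) + fun i => (C (r' i) : F[X]) := by
    funext i
    rw [Pi.add_apply, map_add]
    rfl
  rw [w, h1, map_add]
  rfl

theorem w_smul (n : ℕ) (M : Matrix (Fin (n + 1)) (Fin (n + 1)) F) (c : F) (r : Fin (n + 1) → F) :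
    w M (c • r) = (C c : F[X]) • w M r := by
  have h1 : (fun i => C ((c • r) i)) = (C c : F[X]) • fun i => (C (r i) : F[X]) := by
    funext i
    rw [Pi.smul_apply, smul_eq_mul, map_mul]
    rfl
  rw [w, h1, map_smul]
  rfl

/-- the polynomial `w 0` has degree at most `n` -/
theorem w_mem (n : ℕ) (M : Matrix (Fin (n + 1)) (Fin (n + 1)) F) (r : Fin (n + 1) → F) :
    w M r 0 ∈ degreeLT F (n + 1) := by
  rw [mem_degreeLT, degree_lt_iff_coeff_zero]
  intro k hk
  exact congrFun (wc_eq_zero M r hk) 0

/-- a basis whose first coordinate is `φ` -/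
theorem exists_basis [FiniteDimensional F V] {n : ℕ} (hn : finrank F V = n + 1) {φ : V →ₗ[F] F} (hφ : φ ≠ 0) :
    ∃ B : Basis (Fin (n + 1)) F V, ∀ x, φ x = B.equivFun x 0 := by
  obtain ⟨v, hv⟩ : ∃ v, φ v ≠ 0 := by
    by_contra hcon
    push Not at hcon
    exact hφ (LinearMap.ext hcon)
  have hsurj : Function.Surjective φ := fun c => ⟨(c / φ v) • v, by
    rw [map_smul, smul_eq_mul, div_mul_cancel₀ _ hv]⟩
  have hk : finrank F (LinearMap.ker φ) = n := by
    have h1 := LinearMap.finrank_range_add_finrank_ker φ
    rw [LinearMap.range_eq_top.2 hsurj, finrank_top, finrank_self, hn] at h1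
    omega
  let b' : Basis (Fin n) F (LinearMap.ker φ) := finBasisOfFinrankEq F _ hk
  obtain ⟨v, hv⟩ := hsurj 1
  let B : Basis (Fin (n + 1)) F V := Basis.mkFinCons v b' (fun c x hx h => by
      have h1 := congrArg φ h
      rw [map_add, map_smul, hv, LinearMap.mem_ker.1 hx, map_zero, smul_eq_mul, mul_one, add_zero] at h1
      exact h1) (fun z => ⟨-φ z, by
      rw [LinearMap.mem_ker, map_add, map_smul, hv, smul_eq_mul, mul_one, add_neg_cancel]⟩)
  have hB : (B : Fin (n + 1) → V) = Fin.cons v (((↑) : LinearMap.ker φ → V) ∘ b') := Basis.coe_mkFinCons _ _ _ _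
  refine ⟨B, fun x => ?_⟩
  have h1 : φ = B.coord 0 := by
    refine B.ext fun i => ?_
    rw [Basis.coord_apply, Basis.repr_self]
    refine Fin.cases ?_ (fun j => ?_) i
    · rw [Finsupp.single_eq_same, hB, Fin.cons_zero, hv]
    · rw [Finsupp.single_eq_of_ne (Fin.succ_ne_zero j).symm, hB, Fin.cons_succ]
      exact LinearMap.mem_ker.1 (b' j).2
  rw [h1, Basis.coord_apply]
  rfl

theorem exists_charpoly_add [FiniteDimensional F V] {φ : V →ₗ[F] F} {T : End F V} (h : Obs φ T) {f : F[X]}
    (hf : f.Monic) (hd : f.natDegree = finrank F V) : ∃ b : V, LinearMap.charpoly (T + φ.smulRight b) = f := by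
  rcases Nat.eq_zero_or_eq_succ_pred (finrank F V) with h0 | h0
  · refine ⟨0, ?_⟩
    have h1 : (LinearMap.charpoly (T + φ.smulRight 0)).natDegree = 0 := by rw [LinearMap.charpoly_natDegree, h0]
    rw [(LinearMap.charpoly_monic _).natDegree_eq_zero.1 h1, hf.natDegree_eq_zero.1 (hd.trans h0)]
  obtain ⟨n, hn⟩ : ∃ n, finrank F V = n + 1 := ⟨_, h0⟩
  have hφ : φ ≠ 0 := by
    rintro rfl
    have h1 := h ⊤ (fun x _ => rfl) (fun x _ => Submodule.mem_top)
    have h2 := finrank_top F V
    rw [h1, finrank_bot] at h2
    omega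
  obtain ⟨B, hB⟩ := exists_basis hn hφ
  set M := LinearMap.toMatrix B B T with hM
  have hT : ∀ y : Fin (n + 1) → F, T (B.equivFun.symm y) = B.equivFun.symm (M.mulVec y) := by
    intro y
    apply B.equivFun.injective
    rw [LinearEquiv.apply_symm_apply]
    have h1 := LinearMap.toMatrix_mulVec_repr B B T (B.equivFun.symm y)
    have h2 : (B.repr (B.equivFun.symm y) : Fin (n + 1) → F) = y := B.equivFun.apply_symm_apply y
    rw [h2] at h1
    exact h1.symm
  -- the linear map
  let L : V →ₗ[F] degreeLT F (n + 1) :=
    { toFun := fun b => ⟨w M (B.equivFun b) 0, w_mem n M _⟩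
      map_add' := fun b b' => Subtype.ext (by
        show w M (B.equivFun (b + b')) 0 = w M (B.equivFun b) 0 + w M (B.equivFun b') 0
        rw [map_add, w_add]; rfl)
      map_smul' := fun c b => Subtype.ext (by
        show w M (B.equivFun (c • b)) 0 = c • w M (B.equivFun b) 0
        rw [map_smul, w_smul, Pi.smul_apply, smul_eq_mul, ← smul_eq_C_mul]) }
  have hinj : Function.Injective L := by
    rw [← LinearMap.ker_eq_bot, LinearMap.ker_eq_bot']
    intro b hb
    have hb0 : w M (B.equivFun b) 0 = 0 := congrArg Subtype.val hb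
    set r := B.equivFun b with hr
    let v : ℕ → V := fun k => B.equivFun.symm (wc M r k)
    have hvn : v n = b := by
      show B.equivFun.symm (wc M r n) = b
      rw [wc_last, hr, LinearEquiv.symm_apply_apply]
    have hmem : ∀ k, v k ∈ Submodule.span F (Set.range v) := fun k => Submodule.subset_span ⟨k, rfl⟩
    have hbm : b ∈ Submodule.span F (Set.range v) := hvn ▸ hmem n
    have hS := h (Submodule.span F (Set.range v)) (fun x hx => by
        induction hx using Submodule.span_induction with
        | mem x hx =>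
          obtain ⟨k, rfl⟩ := hx
          rw [hB]
          show B.equivFun (B.equivFun.symm (wc M r k)) 0 = 0
          rw [LinearEquiv.apply_symm_apply]
          show (w M r 0).coeff k = 0
          rw [hb0, coeff_zero]
        | zero => rw [map_zero]
        | add x y _ _ hx hy => rw [map_add, hx, hy, add_zero]
        | smul c x _ hx => rw [map_smul, hx, smul_zero]) (fun x hx => by
        induction hx using Submodule.span_induction with
        | mem x hx =>
          obtain ⟨k, rfl⟩ := hx
          show T (B.equivFun.symm (wc M r k)) ∈ _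
          rw [hT]
          cases k with
          | zero =>
            rw [wc_zero, map_neg, map_smul, hr, LinearEquiv.symm_apply_apply]
            exact Submodule.neg_mem _ (Submodule.smul_mem _ _ hbm)
          | succ k =>
            have h1 : M.mulVec (wc M r (k + 1)) = wc M r k - M.charpoly.coeff (k + 1) • r := by
              rw [wc_succ M r k]; abel
            rw [h1, map_sub, map_smul, hr, LinearEquiv.symm_apply_apply]
            exact Submodule.sub_mem _ (hmem k) (Submodule.smul_mem _ _ hbm)
        | zero => rw [map_zero]; exact Submodule.zero_mem _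
        | add x y _ _ hx hy => rw [map_add]; exact Submodule.add_mem _ hx hy
        | smul c x _ hx => rw [map_smul]; exact Submodule.smul_mem _ _ hx)
    rw [hS] at hbm
    exact (Submodule.mem_bot F).1 hbm
  have hfr : finrank F (degreeLT F (n + 1)) = n + 1 := by
    rw [(degreeLTEquiv F (n + 1)).finrank_eq, finrank_fin_fun]
  have : FiniteDimensional F (degreeLT F (n + 1)) := FiniteDimensional.of_finrank_pos (by rw [hfr]; omega)
  have hsurj : Function.Surjective L :=
    (LinearMap.injective_iff_surjective_of_finrank_eq_finrank (by rw [hn, hfr])).1 hinj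
  have hMd : M.charpoly.natDegree = n + 1 := by rw [Matrix.charpoly_natDegree_eq_dim, Fintype.card_fin]
  have hdf : (M.charpoly - f) ∈ degreeLT F (n + 1) := by
    rw [mem_degreeLT]
    have h1 : M.charpoly.degree = f.degree := by
      rw [degree_eq_natDegree M.charpoly_monic.ne_zero, degree_eq_natDegree hf.ne_zero, hMd, hd, hn]
    have h2 := degree_sub_lt_left h1 M.charpoly_monic.ne_zero (by
      rw [M.charpoly_monic.leadingCoeff, hf.leadingCoeff])
    rwa [degree_eq_natDegree M.charpoly_monic.ne_zero, hMd] at h2
  obtain ⟨b, hb⟩ := hsurj ⟨_, hdf⟩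
  refine ⟨b, ?_⟩
  have hb' : w M (B.equivFun b) 0 = M.charpoly - f := congrArg Subtype.val hb
  rw [← LinearMap.charpoly_toMatrix (T + φ.smulRight b) B]
  have h1 : LinearMap.toMatrix B B (T + φ.smulRight b) =
      M.updateCol 0 (fun i => M i 0 + B.equivFun b i) := by
    ext1 i j
    have hMij : M i j = B.repr (T (B j)) i := by rw [hM, LinearMap.toMatrix_apply]
    rw [LinearMap.toMatrix_apply, LinearMap.add_apply, map_add, Finsupp.add_apply, LinearMap.smulRight_apply, map_smul,
      Finsupp.smul_apply, hB]
    have h2 : B.equivFun (B j) 0 = if j = 0 then 1 else 0 := by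
      rw [Basis.equivFun_self]
    rw [h2]
    by_cases hj : j = 0
    · subst hj
      rw [Matrix.updateCol_self, if_pos rfl, one_smul, hMij]
      rfl
    · rw [Matrix.updateCol_ne hj, if_neg hj, zero_smul, add_zero, hMij]
  rw [h1, charpoly_updateCol, hb', sub_sub_cancel]

end Cfsg.Agent.H216.Pole
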